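import Cfsg.Agent.H445.SLThree
import Cfsg.Agent.OddHalf.NI.F1Mat

/-!
# S3223: the groups `PSL_n(3)`, `PSU_n(3)` (helper453, tasks 771, 772 of helper445)

`noTC_of_rep`: the group `Γ / Z(Γ)` for a matrix representation with blocks.
-/

set_option autoImplicit false

namespace Cfsg.Agent.H453.NoTC

open Subgroup Cfsg Matrix Cfsg.Agent.Cit.LongBlock Cfsg.Agent.Cit.LongQuot
  Cfsg.Agent.Cit.LongMain Cfsg.Agent.Cit.LongModel Cfsg.Agent.Cit.LongInst Cfsg.Agent.H445

variable {Γ : Type*} [Group Γ] {F : Type*} [Field F] {κ : Type*} [Fintype κ] [DecidableEq κ]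

/-- `w` normalizes the first block and inverts `y` -/
theorem noTC_of_rep [Finite Γ] (R : Rep Γ F κ) [Nonempty κ] (h2 : (2 : F) ≠ 0) {F' : Type*} [Field F'] [Fintype F']
    (h3 : Fintype.card F' = 3) (e : Nonempty (R.E1 ≃* SpecialLinearGroup (Fin 2) F')) {y w : Γ}
    {Y A : Matrix (Fin 2) (Fin 2) F} {S : Matrix κ κ F} (hy : R.ρ y = fromBlocks Y 0 0 1)
    (hw : R.ρ w = fromBlocks A 0 0 S) (hY1 : Y ≠ 1) (hY3 : Y * (Y * Y) = 1) (hAY : A * Y = Y * Y * A)
    (hw2 : ∃ k : ℕ, w ^ 2 ^ k = 1) : NoTC (Γ ⧸ center Γ) := by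
  obtain ⟨e⟩ := e
  have hyE : y ∈ R.E1 := ⟨Y, hy⟩
  have hy1 : y ≠ 1 := by
    rintro rfl
    rw [map_one, ← fromBlocks_one, fromBlocks_inj] at hy
    exact hY1 hy.1.symm
  have hy3 : y ^ 3 = 1 := by
    apply R.inj
    rw [map_pow, map_one, hy, pow_succ, pow_two, fromBlocks_multiply, fromBlocks_multiply, ← fromBlocks_one]
    simp only [Matrix.zero_mul, Matrix.mul_zero, add_zero, zero_add, Matrix.mul_one]
    rw [Matrix.mul_assoc, hY3]
  have hwy : w * y = y * y * w := by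
    apply R.inj
    rw [map_mul, map_mul, map_mul, hy, hw, fromBlocks_multiply, fromBlocks_multiply, fromBlocks_multiply]
    simp only [Matrix.zero_mul, Matrix.mul_zero, add_zero, zero_add, Matrix.mul_one, Matrix.one_mul]
    rw [hAY]
  have hwy2 : w * y * w⁻¹ = y⁻¹ := by
    rw [hwy, mul_inv_cancel_right]
    apply eq_inv_of_mul_eq_one_left
    rw [← hy3, pow_succ, pow_two]
  refine NoTC.of_sl3 (j := z0 R) (J := D1 R) (y := pr Γ y) (w := pr Γ w) ⟨1, ?_⟩ D1_le_CC (D1_subnormal R h2) h3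
    ((D1Equiv R).symm.trans e) (mem_map_of_mem _ hyE) ?_ ?_ ?_ ?_ (Or.inl ?_)
  · rw [pow_one, pow_two]; exact z0_mul
  · intro h
    exact hy1 (E1_center R hyE (pr_eq_one.1 h))
  · rw [← map_pow, hy3, map_one]
  · have h1 := R.comm_t_of_blocks hw
    change pr Γ w * pr Γ R.t = pr Γ R.t * pr Γ w
    rw [← map_mul, h1, map_mul]
  · obtain ⟨k, hk⟩ := hw2
    exact ⟨k, by rw [← map_pow, hk, map_one]⟩
  · rw [← map_mul, ← map_inv, ← map_mul, hwy2, map_inv]

/-- `diag(c, 1, …, 1)` -/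
def Sd {k : ℕ} (hk : 1 ≤ k) (c : F) : Matrix (Fin k) (Fin k) F :=
  diagonal (Function.update (fun _ => 1) (⟨0, hk⟩ : Fin k) c)

theorem Sd_det {k : ℕ} (hk : 1 ≤ k) (c : F) : (Sd hk c).det = c := by
  rw [Sd, det_diagonal, Finset.prod_update_of_mem (Finset.mem_univ _)]
  simp

theorem Sd_mul {k : ℕ} (hk : 1 ≤ k) (c d : F) : Sd hk c * Sd hk d = Sd hk (c * d) := by
  rw [Sd, Sd, Sd, diagonal_mul_diagonal]
  congr 1
  funext j
  rcases eq_or_ne j (⟨0, hk⟩ : Fin k) with rfl | hj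
  · simp
  · simp [Function.update_of_ne hj]

theorem Sd_one {k : ℕ} (hk : 1 ≤ k) : Sd hk (1 : F) = 1 := by
  rw [Sd, ← diagonal_one]
  congr 1
  funext j
  rcases eq_or_ne j (⟨0, hk⟩ : Fin k) with rfl | hj
  · simp
  · simp [Function.update_of_ne hj]

theorem Sd_trans {k : ℕ} (hk : 1 ≤ k) (c : F) : (Sd hk c)ᵀ = Sd hk c := diagonal_transpose _

theorem Sd_map {k : ℕ} (hk : 1 ≤ k) (c : F) (t : F →+* F) : (Sd hk c).map t = Sd hk (t c) := by
  rw [Sd, Sd, diagonal_map (map_zero t)]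
  congr 1
  funext j
  rcases eq_or_ne j (⟨0, hk⟩ : Fin k) with rfl | hj
  · simp
  · simp [Function.update_of_ne hj]

theorem two_ne {F : Type*} [Field F] (h3 : (3 : F) = 0) : (2 : F) ≠ 0 := by
  intro h
  have : (1 : F) = 3 - 2 := by norm_num
  rw [h3, h, sub_zero] at this
  exact one_ne_zero this

/-- `PSL_n(3)` -/
theorem noTC_psl3 {F : Type} [Field F] [Fintype F] (hF : Fintype.card F = 3) {n : ℕ} (hn : 3 ≤ n) :
    NoTC (Matrix.ProjectiveSpecialLinearGroup (Fin n) F) := by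
  obtain ⟨k, rfl⟩ : ∃ k, n = 2 + k := ⟨n - 2, by omega⟩
  have hk : 1 ≤ k := by omega
  have : Nonempty (Fin k) := ⟨⟨0, hk⟩⟩
  have h3 := three_eq_zero hF
  have h2 := two_ne h3
  have hR := slRep_model F k
  have hc : ∀ M : Matrix (Fin 2 ⊕ Fin k) (Fin 2 ⊕ Fin k) F, M.det = 1 → ∃ g, (slRep F k).ρ g = M := fun M hM =>
    (hR M).2 ⟨hM, fun t ht => absurd ht (Set.notMem_empty t)⟩
  obtain ⟨y, hy⟩ := hc (fromBlocks !![1, 1; 0, 1] 0 0 1) (by
    rw [det_fromBlocks_zero₂₁, det_one, mul_one, det_fin_two_of]; ring)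
  obtain ⟨w, hw⟩ := hc (fromBlocks !![1, 0; 0, -1] 0 0 (Sd hk (-1))) (by
    rw [det_fromBlocks_zero₂₁, Sd_det, det_fin_two_of]; ring)
  have hE : Nonempty ((slRep F k).E1 ≃* SpecialLinearGroup (Fin 2) F) := by
    obtain ⟨f⟩ := hR.toW.equiv1
    obtain ⟨e⟩ := un_empty_equiv F (Fin 2)
    exact ⟨f.trans e⟩
  refine noTC_of_rep (slRep F k) h2 hF hE hy hw ?_ ?_ ?_ ⟨1, ?_⟩
  · intro h
    have := congrFun (congrFun h 0) 1
    simp at this
  · ext i j
    fin_cases i <;> fin_cases j <;> simp [Matrix.mul_apply, Fin.sum_univ_two]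
    rw [← h3]; ring
  · ext i j
    fin_cases i <;> fin_cases j <;> simp [Matrix.mul_apply, Fin.sum_univ_two]
    linear_combination h3
  · apply (slRep F k).inj
    rw [map_pow, map_one, hw, pow_one, pow_two, fromBlocks_multiply, ← fromBlocks_one]
    simp only [Matrix.zero_mul, Matrix.mul_zero, add_zero, zero_add]
    rw [Sd_mul, neg_one_mul, neg_neg, Sd_one]
    congr 1
    ext i j
    fin_cases i <;> fin_cases j <;> simp [Matrix.mul_apply, Fin.sum_univ_two]

/-- `PSU_n(3)` -/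
theorem noTC_psu3 {F : Type} [Field F] [Fintype F] (hF : Fintype.card F = 9) {n : ℕ} (hn : 3 ≤ n) :
    NoTC (Cfsg.PSU n F 3) := by
  obtain ⟨k, rfl⟩ : ∃ k, n = 2 + k := ⟨n - 2, by omega⟩
  have hk : 1 ≤ k := by omega
  have : Nonempty (Fin k) := ⟨⟨0, hk⟩⟩
  have hF2 : Fintype.card F = 3 ^ 2 := by rw [hF]; norm_num
  have hK : Fintype.card (KK hF2) = 3 := card_KK hF2
  have h3 := three_su hF2 hK
  have h2 := two_ne h3
  obtain ⟨i, hi⟩ : ∃ i : F, i * i = -1 := by
    have h1 : IsSquare (-1 : F) := FiniteField.isSquare_neg_one_iff.2 (by rw [hF]; decide)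
    obtain ⟨i, hi⟩ := h1
    exact ⟨i, hi.symm⟩
  have hci : cj hF2 i = -i := by
    rw [cj_apply, pow_succ, pow_two, hi]; ring
  have hR := suRep_model hF2 k hk
  have hbar : ∀ t ∈ ({cj hF2} : Set (F →+* F)), t i = -i := by
    intro t ht; rw [Set.mem_singleton_iff.1 ht]; exact hci
  have hcY : Cond ({cj hF2} : Set (F →+* F)) (!![1 + i, 1 - i; -(1 + i), 1 - i] : Matrix (Fin 2) (Fin 2) F) := by
    refine ⟨by rw [det_fin_two_of]; linear_combination (-2 : F) * hi + h3, fun t ht => ?_⟩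
    have h1 := hbar t ht
    ext a b
    fin_cases a <;> fin_cases b <;> simp [Matrix.mul_apply, Fin.sum_univ_two, h1]
    all_goals first
      | linear_combination (-2 : F) * hi + h3
      | ring
  obtain ⟨y, hy⟩ := (hR (fromBlocks !![1 + i, 1 - i; -(1 + i), 1 - i] 0 0 1)).2 (hcY.fromBlocks (Cond.one _))
  obtain ⟨w, hw⟩ := (hR (fromBlocks !![0, 1; i, 0] 0 0 (Sd hk i))).2 (by
    refine ⟨?_, fun t ht => ?_⟩
    · rw [det_fromBlocks_zero₂₁, Sd_det, det_fin_two_of]; linear_combination -hi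
    · have h1 := hbar t ht
      rw [fromBlocks_transpose, fromBlocks_map, fromBlocks_multiply, ← fromBlocks_one]
      have h4 : (Sd hk i)ᵀ * (Sd hk i).map t = 1 := by
        rw [Sd_trans, Sd_map, Sd_mul, h1, mul_neg, hi, neg_neg, Sd_one]
      have h5 : (!![0, 1; i, 0] : Matrix (Fin 2) (Fin 2) F)ᵀ * (!![0, 1; i, 0] : Matrix (Fin 2) (Fin 2) F).map t = 1 := by
        ext a b
        fin_cases a <;> fin_cases b <;> simp [Matrix.mul_apply, Fin.sum_univ_two, h1]
        all_goals linear_combination -hi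
      rw [h4, h5]
      simp)
  have hE : Nonempty ((suRep hF2 k hk).E1 ≃* SpecialLinearGroup (Fin 2) (KK hF2)) := by
    obtain ⟨f⟩ := hR.toW.equiv1
    obtain ⟨e⟩ := un2_equiv hF2
    exact ⟨f.trans e⟩
  refine noTC_of_rep (suRep hF2 k hk) h2 hK hE hy hw ?_ ?_ ?_ ⟨3, ?_⟩
  · intro h
    have h4 := congrFun (congrFun h 0) 0
    simp at h4
    rw [h4] at hi
    simp at hi
  · rw [mul_fin_two, mul_fin_two, one_fin_two]
    ext a b
    fin_cases a <;> fin_cases b <;> simp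
    · linear_combination (6 + 2 * i) * hi + (-3) * h3
    · linear_combination (2 - 2 * i) * hi
    · linear_combination (-2 - 2 * i) * hi
    · linear_combination (6 - 2 * i) * hi + (-3) * h3
  · rw [mul_fin_two, mul_fin_two, mul_fin_two]
    ext a b
    fin_cases a <;> fin_cases b <;> simp
    · linear_combination 2 * hi + (-1 - i) * h3
    · linear_combination (-2) * hi + (1 - i) * h3
    · linear_combination (3 - 2 * i) * hi + (-1 + i) * h3
    · linear_combination (-1) * hi + (1 + i) * h3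
  · have h4 : w ^ 2 ^ 3 = ((w * w) * (w * w)) * ((w * w) * (w * w)) := by
      simp only [← pow_two, ← pow_mul]; norm_num
    apply (suRep hF2 k hk).inj
    rw [h4]
    simp only [map_mul, map_one, hw, fromBlocks_multiply, Matrix.zero_mul, Matrix.mul_zero, add_zero, zero_add, Sd_mul]
    rw [← fromBlocks_one]
    have h5 : i * i * (i * i) * (i * i * (i * i)) = 1 := by rw [hi]; ring
    rw [h5, Sd_one]
    congr 1
    rw [mul_fin_two, mul_fin_two, mul_fin_two, one_fin_two]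
    ext a b
    fin_cases a <;> fin_cases b <;> simp
    all_goals linear_combination (-1 + i ^ 2) * hi

end Cfsg.Agent.H453.NoTC
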