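import Cfsg.Agent.H453.NoTC.Rep

/-!
# S3223: the groups `PSp_{2m}(3)`, `m ≥ 2` (helper453, task 772 of helper445)
-/

set_option autoImplicit false

namespace Cfsg.Agent.H453.NoTC

open Subgroup Cfsg Matrix Cfsg.Agent.Cit.LongBlock Cfsg.Agent.Cit.LongQuot
  Cfsg.Agent.Cit.LongMain Cfsg.Agent.Cit.LongModel Cfsg.Agent.Cit.LongInst Cfsg.Agent.H445
  Cfsg.Agent.OddHalf.NI.F1Mat

theorem sn_step {L : Type*} [Group L] {D C X : Subgroup L} (hDC : D ≤ C)
    (h1 : (C.subgroupOf X).IsSubnormal) (h2 : ∀ x ∈ C, ∀ c ∈ D, x * c * x⁻¹ ∈ D) : (D.subgroupOf X).IsSubnormal := by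
  refine IsSubnormal.step _ (C.subgroupOf X) ?_ h1 ?_
  · intro x hx
    exact mem_subgroupOf.2 (hDC (mem_subgroupOf.1 hx))
  · constructor
    intro n hn g
    refine mem_subgroupOf.2 (mem_subgroupOf.2 ?_)
    exact h2 _ (mem_subgroupOf.1 g.2) _ (mem_subgroupOf.1 (mem_subgroupOf.1 hn))

section gen

variable {Γ : Type*} [Group Γ] {F : Type*} [Field F] {κ : Type*} [Fintype κ] [DecidableEq κ]

/-- `w` is an involution which conjugates the first block into the group of the second block -/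
theorem noTC_of_swap [Finite Γ] (R : Rep Γ F κ) [Nonempty κ] (h2 : (2 : F) ≠ 0) {F' : Type*} [Field F'] [Fintype F']
    (h3 : Fintype.card F' = 3) (e : Nonempty (R.E1 ≃* SpecialLinearGroup (Fin 2) F')) {y w : Γ}
    (hy : y ∈ R.E1) (hy1 : y ≠ 1) (hy3 : y ^ 3 = 1) (hw2 : w * w = 1)
    (hwE : ∀ x ∈ R.E1, w * x * w⁻¹ ∈ R.E2) : NoTC (Γ ⧸ center Γ) := by
  obtain ⟨e⟩ := e
  have hwi : w⁻¹ = w := inv_eq_of_mul_eq_one_left hw2
  set t2 : Γ := w * R.t * w⁻¹ with ht2
  have ht2E : t2 ∈ R.E2 := hwE _ R.t_mem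
  have hwt2 : w * t2 * w⁻¹ = R.t := by
    rw [ht2, hwi]
    calc w * (w * R.t * w) * w = (w * w) * R.t * (w * w) := by group
      _ = R.t := by rw [hw2]; group
  set j1 : Γ ⧸ center Γ := z0 R with hj1
  set j2 : Γ ⧸ center Γ := pr Γ t2 with hj2
  have hj2D : j2 ∈ D2 R := mem_map_of_mem _ ht2E
  have hj12 : j1 * j2 = j2 * j1 := comm_D1_D2 R z0_mem hj2D
  have hs1 : j1 * j1 = 1 := z0_mul
  have hs2 : j2 * j2 = 1 := by
    have : t2 * t2 = 1 := by
      rw [ht2]
      calc w * R.t * w⁻¹ * (w * R.t * w⁻¹) = w * (R.t * R.t) * w⁻¹ := by group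
        _ = 1 := by rw [R.t_sq]; group
    rw [hj2, ← map_mul, this, map_one]
  set D : Subgroup (Γ ⧸ center Γ) := zpowers j1 ⊔ zpowers j2 with hD
  have hP : ∀ j : Γ ⧸ center Γ, j * j = 1 → IsPGroup 2 (zpowers j) := fun j hj =>
    isPGroup_zpowers ⟨1, by rw [pow_one, pow_two]; exact hj⟩
  have hDp : IsPGroup 2 D := by
    refine (hP j1 hs1).to_sup_of_normal_right' (hP j2 hs2) ?_
    rw [zpowers_le]
    apply centralizer_le_normalizer
    rw [mem_centralizer_iff]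
    rintro x ⟨n, rfl⟩
    exact ((Commute.zpow_right hj12 n).eq).symm
  have hJc : D1 R ≤ centralizer (D : Set (Γ ⧸ center Γ)) := by
    intro x hx
    have h4 : D ≤ centralizer ({x} : Set (Γ ⧸ center Γ)) := by
      rw [hD, sup_le_iff, zpowers_le, zpowers_le, mem_centralizer_singleton_iff, mem_centralizer_singleton_iff]
      refine ⟨?_, (comm_D1_D2 R hx hj2D).symm⟩
      exact (mem_centralizer_singleton_iff.1 (D1_le_CC hx)).symm
    rw [mem_centralizer_iff]
    intro d hd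
    exact (mem_centralizer_singleton_iff.1 (h4 hd))
  have hcj : centralizer (D : Set (Γ ⧸ center Γ)) ≤ CC R := by
    refine centralizer_le ?_
    rw [Set.singleton_subset_iff]
    exact (le_sup_left : zpowers j1 ≤ D) (mem_zpowers j1)
  have hsn : ((D1 R).subgroupOf (normalizer (D : Set (Γ ⧸ center Γ)))).IsSubnormal := by
    refine sn_step (C := C0 R ⊓ centralizer (D : Set (Γ ⧸ center Γ))) (le_inf (D1_le R) hJc) ?_ ?_
    · refine sn_step (C := centralizer (D : Set (Γ ⧸ center Γ))) inf_le_right ?_ ?_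
      · refine Normal.isSubnormal ⟨?_⟩
        intro n hn g
        rw [mem_subgroupOf] at hn ⊢
        rw [mem_centralizer_iff] at hn ⊢
        intro d hd
        have h5 : (g : Γ ⧸ center Γ)⁻¹ * d * g ∈ D := by
          have := (mem_normalizer_iff.1 (inv_mem g.2) d).1 hd
          rwa [inv_inv] at this
        have h6 := hn _ h5
        change d * (g * n * (g : Γ ⧸ center Γ)⁻¹) = g * n * (g : Γ ⧸ center Γ)⁻¹ * d
        calc d * (g * n * (g : Γ ⧸ center Γ)⁻¹) = g * (((g : Γ ⧸ center Γ)⁻¹ * d * g) * n) * (g : Γ ⧸ center Γ)⁻¹ := by group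
          _ = g * (n * ((g : Γ ⧸ center Γ)⁻¹ * d * g)) * (g : Γ ⧸ center Γ)⁻¹ := by rw [h6]
          _ = _ := by group
      · rintro x hx c ⟨hc1, hc2⟩
        exact ⟨C0_conj R (hcj hx) hc1, (centralizer (D : Set (Γ ⧸ center Γ))).mul_mem
          ((centralizer (D : Set (Γ ⧸ center Γ))).mul_mem hx hc2) ((centralizer (D : Set (Γ ⧸ center Γ))).inv_mem hx)⟩
    · rintro x ⟨hx, -⟩ c hc
      exact D1_conj R h2 hx hc
  have hwD : pr Γ w ∈ normalizer (D : Set (Γ ⧸ center Γ)) := by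
    have h6 : D.map (MulAut.conj (pr Γ w)).toMonoidHom ≤ D := by
      rw [hD, Subgroup.map_sup, MonoidHom.map_zpowers, MonoidHom.map_zpowers, sup_le_iff, zpowers_le, zpowers_le]
      constructor
      · have : (MulAut.conj (pr Γ w)).toMonoidHom j1 = j2 := by
          change pr Γ w * pr Γ R.t * (pr Γ w)⁻¹ = pr Γ (w * R.t * w⁻¹)
          rw [map_mul, map_mul, map_inv]
        rw [this]
        exact (le_sup_right : zpowers j2 ≤ D) (mem_zpowers j2)
      · have : (MulAut.conj (pr Γ w)).toMonoidHom j2 = j1 := by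
          have h7 : pr Γ (w * t2 * w⁻¹) = pr Γ R.t := congrArg (pr Γ) hwt2
          rw [map_mul (pr Γ) (w * t2), map_mul (pr Γ) w t2, map_inv] at h7
          exact h7
        rw [this]
        exact (le_sup_left : zpowers j1 ≤ D) (mem_zpowers j1)
    rw [mem_normalizer_iff]
    have key : ∀ d ∈ D, pr Γ w * d * (pr Γ w)⁻¹ ∈ D := fun d hd => h6 (mem_map_of_mem _ hd)
    have hww : pr Γ w * pr Γ w = 1 := by rw [← map_mul, hw2, map_one]
    have hwi' : (pr Γ w)⁻¹ = pr Γ w := inv_eq_of_mul_eq_one_left hww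
    intro d
    refine ⟨key d, fun h => ?_⟩
    have h7 := key _ h
    have h8 : pr Γ w * (pr Γ w * d * (pr Γ w)⁻¹) * (pr Γ w)⁻¹ = d := by
      rw [hwi']
      calc pr Γ w * (pr Γ w * d * pr Γ w) * pr Γ w = (pr Γ w * pr Γ w) * d * (pr Γ w * pr Γ w) := by group
        _ = d := by rw [hww]; group
    rwa [h8] at h7
  refine NoTC.of_sl3_norm (D := D) (J := D1 R) (y := pr Γ y) (w := pr Γ w) hDp
    (hJc.trans (centralizer_le_normalizer _)) hsn h3 ((D1Equiv R).symm.trans e) (mem_map_of_mem _ hy) ?_ ?_ hwD ?_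
    (Or.inr ?_)
  · intro h
    exact hy1 (E1_center R hy (pr_eq_one.1 h))
  · rw [← map_pow, hy3, map_one]
  · exact ⟨1, by rw [pow_one, pow_two, ← map_mul, hw2, map_one]⟩
  · intro x hx
    have h9 : pr Γ w * pr Γ y * (pr Γ w)⁻¹ ∈ D2 R := by
      rw [← map_mul, ← map_inv, ← map_mul]
      exact mem_map_of_mem _ (hwE y hy)
    exact (comm_D1_D2 R hx h9).symm

end gen

section Sp

variable (F : Type*) [Field F] (k : ℕ) (p0 : Fin k)

/-- exchanges the two hyperbolic planes -/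
def tau : Fin 2 ⊕ (Fin k ⊕ Fin k) → Fin 2 ⊕ (Fin k ⊕ Fin k)
  | .inl a => if a = 0 then .inr (.inl p0) else .inr (.inr p0)
  | .inr (.inl j) => if j = p0 then .inl 0 else .inr (.inl j)
  | .inr (.inr j) => if j = p0 then .inl 1 else .inr (.inr j)

theorem tau_tau (a) : tau k p0 (tau k p0 a) = a := by
  rcases a with a | a | a
  · fin_cases a <;> simp [tau]
  · by_cases h : a = p0 <;> simp [tau, h]
  · by_cases h : a = p0 <;> simp [tau, h]

/-- the form -/
def gm : Matrix (Fin 2 ⊕ (Fin k ⊕ Fin k)) (Fin 2 ⊕ (Fin k ⊕ Fin k)) F :=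
  fromBlocks (Cit.LongSp.jj F) 0 0 (J (Fin k) F)

theorem gm_tau (a b) : gm F k (tau k p0 a) (tau k p0 b) = gm F k a b := by
  have e1 : ∀ c : Fin k, (p0 = c) = (c = p0) := fun c => propext eq_comm
  rcases a with a | a | a <;> rcases b with b | b | b
  · fin_cases a <;> fin_cases b <;> simp [tau, gm, J, Cit.LongSp.jj]
  · fin_cases a <;> by_cases hb : b = p0 <;> simp [tau, gm, J, Cit.LongSp.jj, hb, Matrix.one_apply, e1]
  · fin_cases a <;> by_cases hb : b = p0 <;> simp [tau, gm, J, Cit.LongSp.jj, hb, Matrix.one_apply, e1]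
  · fin_cases b <;> by_cases hb : a = p0 <;> simp [tau, gm, J, Cit.LongSp.jj, hb, Matrix.one_apply]
  · by_cases ha : a = p0 <;> by_cases hb : b = p0 <;> simp [tau, gm, J, Cit.LongSp.jj, ha, hb, Matrix.one_apply]
  · by_cases ha : a = p0 <;> by_cases hb : b = p0 <;>
      simp [tau, gm, J, Cit.LongSp.jj, ha, hb, Matrix.one_apply, e1]
  · fin_cases b <;> by_cases hb : a = p0 <;> simp [tau, gm, J, Cit.LongSp.jj, hb, Matrix.one_apply]
  · by_cases ha : a = p0 <;> by_cases hb : b = p0 <;>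
      simp [tau, gm, J, Cit.LongSp.jj, ha, hb, Matrix.one_apply, e1]
  · by_cases ha : a = p0 <;> by_cases hb : b = p0 <;> simp [tau, gm, J, Cit.LongSp.jj, ha, hb, Matrix.one_apply]

/-- the permutation matrix of `tau` -/
def tm : Matrix (Fin 2 ⊕ (Fin k ⊕ Fin k)) (Fin 2 ⊕ (Fin k ⊕ Fin k)) F := fun a b => if tau k p0 a = b then 1 else 0

theorem tm_mul (M : Matrix (Fin 2 ⊕ (Fin k ⊕ Fin k)) (Fin 2 ⊕ (Fin k ⊕ Fin k)) F) (a b) :
    (tm F k p0 * M) a b = M (tau k p0 a) b := by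
  rw [Matrix.mul_apply]
  simp only [tm, ite_mul, one_mul, zero_mul]
  rw [Finset.sum_ite_eq]
  simp

theorem tm_symm (a b) : tm F k p0 a b = tm F k p0 b a := by
  unfold tm
  have : tau k p0 a = b ↔ tau k p0 b = a := by
    constructor <;> (rintro rfl; exact tau_tau k p0 _)
  simp only [this]

theorem mul_tm (M : Matrix (Fin 2 ⊕ (Fin k ⊕ Fin k)) (Fin 2 ⊕ (Fin k ⊕ Fin k)) F) (a b) :
    (M * tm F k p0) a b = M a (tau k p0 b) := by
  rw [Matrix.mul_apply]
  simp only [tm_symm F k p0 _ b]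
  simp only [tm, mul_ite, mul_one, mul_zero]
  rw [Finset.sum_ite_eq]
  simp

theorem tm_sq : tm F k p0 * tm F k p0 = 1 := by
  ext a b
  rw [tm_mul, Matrix.one_apply]
  unfold tm
  rw [tau_tau]

theorem tm_mem : (tm F k p0).submatrix (eS k) (eS k) ∈ symplecticGroup (Fin (1 + k)) F := by
  rw [mul_submatrix_iff]
  have h1 : (tm F k p0)ᵀ = tm F k p0 := by
    ext a b
    rw [transpose_apply, tm_symm]
  rw [h1]
  ext a b
  rw [mul_tm, tm_mul]
  exact gm_tau F k p0 a b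

/-- the involution -/
def ww : symplecticGroup (Fin (1 + k)) F := ⟨_, tm_mem F k p0⟩

theorem rho_ww : (spRepG F k).ρ (ww F k p0) = tm F k p0 := by
  change Matrix.submatrix (Matrix.submatrix _ _ _) _ _ = _
  simp

theorem ww_sq : ww F k p0 * ww F k p0 = 1 := by
  apply (spRepG F k).inj
  rw [map_mul, rho_ww, map_one, tm_sq]

theorem conj_ww {x : symplecticGroup (Fin (1 + k)) F} (hx : x ∈ (spRepG F k).E1) :
    ww F k p0 * x * (ww F k p0)⁻¹ ∈ (spRepG F k).E2 := by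
  obtain ⟨P, hP⟩ := hx
  rw [inv_eq_of_mul_eq_one_left (ww_sq F k p0), RepG.mem_E2]
  have h0 : (spRepG F k).ρ (ww F k p0 * x * ww F k p0) = tm F k p0 * fromBlocks P 0 0 1 * tm F k p0 := by
    rw [map_mul, map_mul, rho_ww, hP]
  refine ⟨(tm F k p0 * fromBlocks P 0 0 1 * tm F k p0).toBlocks₂₂, ?_⟩
  rw [h0]
  have key : ∀ a b, (tm F k p0 * (fromBlocks P 0 0 1 :
      Matrix (Fin 2 ⊕ (Fin k ⊕ Fin k)) (Fin 2 ⊕ (Fin k ⊕ Fin k)) F) * tm F k p0 :
      Matrix (Fin 2 ⊕ (Fin k ⊕ Fin k)) (Fin 2 ⊕ (Fin k ⊕ Fin k)) F) a b = (fromBlocks P 0 0 1 :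
      Matrix (Fin 2 ⊕ (Fin k ⊕ Fin k)) (Fin 2 ⊕ (Fin k ⊕ Fin k)) F) (tau k p0 a) (tau k p0 b) := by
    intro a b
    rw [mul_tm, tm_mul]
  have e1 : ∀ c : Fin k, (p0 = c) = (c = p0) := fun c => propext eq_comm
  ext a b
  rcases a with a | a <;> rcases b with b | b
  · rw [key, fromBlocks_apply₁₁]
    fin_cases a <;> fin_cases b <;> simp [tau, Matrix.one_apply]
  · rw [key, fromBlocks_apply₁₂]
    rcases b with b | b <;> fin_cases a <;> by_cases hb : b = p0 <;> simp [tau, Matrix.one_apply, hb, e1]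
  · rw [key, fromBlocks_apply₂₁]
    rcases a with a | a <;> fin_cases b <;> by_cases hb : a = p0 <;> simp [tau, Matrix.one_apply, hb]
  · rw [fromBlocks_apply₂₂]
    rfl

end Sp

/-- `PSp_{2m}(3)` -/
theorem noTC_psp3 {F : Type} [Field F] [Fintype F] (hF : Fintype.card F = 3) {m : ℕ} (hm : 2 ≤ m) :
    NoTC (Cfsg.PSp m F) := by
  obtain ⟨k, rfl⟩ : ∃ k, m = 1 + k := ⟨m - 1, by omega⟩
  let p0 : Fin k := ⟨0, by omega⟩
  have : Nonempty (Fin k ⊕ Fin k) := ⟨Sum.inl p0⟩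
  have h3 := three_eq_zero hF
  have h2 := two_ne h3
  obtain ⟨y, hy⟩ : ∃ y, (spRepG F k).ρ y = fromBlocks !![1, 1; 0, 1] 0 0 1 := by
    refine ⟨⟨_, (sp_block F k !![1, 1; 0, 1]).2 (by rw [det_fin_two_of]; ring)⟩, ?_⟩
    change Matrix.submatrix (Matrix.submatrix _ _ _) _ _ = _
    simp
  refine noTC_of_swap (spRepG F k) h2 hF (spRepG_e1 F k) (y := y) (w := ww F k p0) ⟨_, hy⟩ ?_ ?_ (ww_sq F k p0)
    (fun x hx => conj_ww F k p0 hx)
  · rintro rfl
    rw [map_one, ← fromBlocks_one, fromBlocks_inj] at hy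
    have := congrFun (congrFun hy.1 0) 1
    simp at this
  · have h5 : (!![1, 1; 0, 1] : Matrix (Fin 2) (Fin 2) F) * !![1, 1; 0, 1] * !![1, 1; 0, 1] = 1 := by
      rw [mul_fin_two, mul_fin_two, one_fin_two]
      ext i j
      fin_cases i <;> fin_cases j <;> simp
      linear_combination h3
    apply (spRepG F k).inj
    rw [map_pow, map_one, hy, pow_succ, pow_two, fromBlocks_multiply, fromBlocks_multiply]
    simp only [Matrix.zero_mul, Matrix.mul_zero, add_zero, zero_add, Matrix.mul_one, h5]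
    exact fromBlocks_one

end Cfsg.Agent.H453.NoTC
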